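import Cfsg.Agent.H383.R23.Tool
import Cfsg.Agent.H269.CubeJ2

/-!
# The row of order two of `J₂` (helper383, S3832/S4336)
-/

set_option autoImplicit false

namespace Cfsg.Agent.H383.R23.J2

open Equiv Subgroup Cfsg Cfsg.Agent.H459.Rad Cfsg.Agent.H483.Rad23
open Cfsg.Agent.SporadicA.PermTab Cfsg.Agent.SporadicA.J2Data Cfsg.Agent.SporadicA.J2Hundred
open Cfsg.Agent.H269.CubeJ2Data Cfsg.Agent.H269.CubeTools Cfsg.Agent.H383.Cube Cfsg.Agent.H269.CubeJ2

/-- product of generators -/
def wp : List ℕ → Perm (Fin 100)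
  | [] => 1
  | k :: w => gp k * wp w

/-- its action on numbers -/
def wn : List ℕ → ℕ → ℕ
  | [], j => j
  | k :: w, j => lk (gt k) (wn w j)

theorem wp_val (w : List ℕ) (i : Fin 100) : (wp w i : ℕ) = wn w i := by
  induction w with
  | nil => rfl
  | cons k w ih =>
    show (gp k (wp w i) : ℕ) = _
    rw [gp_val, ih]
    rfl

theorem wp_append (v w : List ℕ) : wp (v ++ w) = wp v * wp w := by
  induction v with
  | nil => rw [List.nil_append, wp, one_mul]
  | cons k v ih => rw [List.cons_append, wp, wp, ih, mul_assoc]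

theorem wp_inv (w : List ℕ) : (wp w)⁻¹ = wp w.reverse := by
  induction w with
  | nil => rw [wp, inv_one]; rfl
  | cons k w ih =>
    rw [List.reverse_cons, wp_append, wp, mul_inv_rev, ih, gp_inv, wp, wp, mul_one]

theorem wp_pow (w : List ℕ) (n : ℕ) (i : Fin 100) : (((wp w) ^ n) i : ℕ) = (wn w)^[n] i := by
  induction n with
  | zero => rfl
  | succ n ih =>
    rw [pow_succ', Perm.mul_apply, wp_val, ih, Function.iterate_succ_apply']

theorem gp_G {k : ℕ} (hk : k < 5) : gp k ∈ G := by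
  interval_cases k
  exacts [mA, mB, mC, mD, mE]

theorem wp_G (w : List ℕ) (hw : ∀ k ∈ w, k < 5) : wp w ∈ G := by
  induction w with
  | nil => exact one_mem _
  | cons k w ih =>
    exact mul_mem (gp_G (hw k List.mem_cons_self)) (ih fun l hl => hw l (List.mem_cons_of_mem _ hl))

/-- the commutator of a generator with a word has order divisible by `l` -/
theorem comm_dvd {k l : ℕ} (hl : l.Prime) (w : List ℕ)
    (h1 : (wn (k :: w ++ (k :: w.reverse)))^[l] 0 = 0) (h2 : wn (k :: w ++ (k :: w.reverse)) 0 ≠ 0) :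
    l ∣ orderOf (gp k * wp w * (gp k)⁻¹ * (wp w)⁻¹) := by
  have e : gp k * wp w * (gp k)⁻¹ * (wp w)⁻¹ = wp (k :: w ++ (k :: w.reverse)) := by
    rw [wp_append, wp, wp, wp_inv, gp_inv]
    group
  rw [e]
  refine dvd_of_cycle (i := (0 : Fin 100)) hl (Fin.ext ?_) fun h => h2 ?_
  · rw [wp_pow]
    exact h1
  · have h3 := wp_val (k :: w ++ (k :: w.reverse)) (0 : Fin 100)
    rw [h] at h3
    exact h3.symm

theorem typ_dvd (k : ℕ) : ∃ a ∈ G, ∃ l : ℕ, l.Prime ∧ 5 ≤ l ∧ l ∣ orderOf (typP k * a * (typP k)⁻¹ * a⁻¹) := by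
  match k with
  | 0 => exact ⟨wp [1], wp_G _ (by decide), 5, by norm_num, le_rfl,
      comm_dvd (k := 0) (by norm_num) [1] (by decide +kernel) (by decide +kernel)⟩
  | 1 => exact ⟨wp [2, 1, 3, 2], wp_G _ (by decide), 5, by norm_num, le_rfl,
      comm_dvd (k := 3) (by norm_num) [2, 1, 3, 2] (by decide +kernel) (by decide +kernel)⟩
  | (n + 2) => exact ⟨wp [1, 2, 3], wp_G _ (by decide), 7, by norm_num, by norm_num,
      comm_dvd (k := 5) (by norm_num) [1, 2, 3] (by decide +kernel) (by decide +kernel)⟩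

theorem row2 (hcen : center G = ⊥) : Row23 2 G := by
  have hfin : Finite G := inferInstance
  intro α ho hR hP hT
  obtain ⟨h, hh, ha⟩ := aut_G α
  have h1 : h ≠ 1 := by
    rintro rfl
    have : α = 1 := by
      apply MulEquiv.ext
      intro g
      apply Subtype.ext
      rw [ha]
      simp
    rw [this, orderOf_one] at ho
    exact absurd ho (by norm_num)
  have h2 : h * h = 1 := by
    refine cent_triv fun g hg => ?_
    have h3 : α * α = 1 := by rw [← pow_two, ← ho]; exact pow_orderOf_eq_one _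
    have h4 := congrArg (fun f : MulAut G => ((f ⟨g, hg⟩ : G) : Perm (Fin 100))) h3
    simp only [MulAut.mul_apply, ha, MulAut.one_apply] at h4
    calc g * (h * h) = (h * (h * g * h⁻¹) * h⁻¹) * (h * h) := by rw [h4]
      _ = h * h * g := by group
  obtain ⟨k, g, hg, e⟩ := inv_HH hh h2 h1
  obtain ⟨a, haG, l, hl, h5, hd⟩ := typ_dvd k
  refine hT.not_dvd hcen hl h5 ⟨g * a * g⁻¹, conj_mem_G hg haG⟩ ?_
  rw [← Subgroup.orderOf_coe, Subgroup.coe_mul, ha, Subgroup.coe_inv]
  have e1 : h * (g * a * g⁻¹) * h⁻¹ * (g * a * g⁻¹)⁻¹ = g * (typP k * a * (typP k)⁻¹ * a⁻¹) * g⁻¹ := by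
    rw [e]
    group
  show l ∣ orderOf (h * (g * a * g⁻¹) * h⁻¹ * (g * a * g⁻¹)⁻¹)
  rw [e1, ← MulAut.conj_apply, MulEquiv.orderOf_eq]
  exact hd

theorem row2_j2 {K : Type*} [Group K] [Finite K] [IsSimpleGroup K] (h : Cfsg.Spor.IsoJ2 K) : Row23 2 K := by
  obtain ⟨e⟩ := h
  obtain ⟨f⟩ := Cfsg.Agent.J2.HundredGens.J2_iso Cfsg.Agent.S1619.result.2.2.2
  let e' : K ≃* G := e.trans f
  have hcard : Nat.card K = 604800 := by rw [Nat.card_congr e'.toEquiv, card_G]
  have hcenK : center K = ⊥ := center_bot_of_simple (by rw [hcard]; norm_num)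
  have hcen : center G = ⊥ := by
    rw [eq_bot_iff]
    intro g hg
    have h1 : e'.symm g ∈ center K := by
      rw [mem_center_iff] at hg ⊢
      intro k
      apply e'.injective
      rw [map_mul, map_mul, MulEquiv.apply_symm_apply]
      exact hg _
    rw [hcenK, mem_bot] at h1
    rw [mem_bot, ← e'.apply_symm_apply g, h1, map_one]
  exact (row2 hcen).congr e'

end Cfsg.Agent.H383.R23.J2
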